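import Groth.Agent.HJ84.Span

/-! Congruences between monomials of the same weight. -/

set_option autoImplicit false
universe u

open MvPolynomial

namespace Groth.Agent.HJ84.Congr

variable {R : Type*} [CommRing R]

/-- Monomials with the same `n` and the same `c` are congruent modulo `x₀^(q-p) - x₁x₂`. -/
lemma congr_same {I : Ideal R} {x0 x1 x2 : R} {p q : ℕ} (hpq : p ≤ q)
    (h : x0 ^ (q - p) - x1 * x2 ∈ I) (d0 d1 d2 e0 e1 e2 : ℕ)
    (hn : (e0 : ℤ) - p * e1 + q * e2 = (d0 : ℤ) - p * d1 + q * d2)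
    (hc : (d1 : ℤ) - d2 = (e1 : ℤ) - e2) :
    x0 ^ d0 * x1 ^ d1 * x2 ^ d2 - x0 ^ e0 * x1 ^ e1 * x2 ^ e2 ∈ I := by
  wlog hle : e2 ≤ d2 generalizing d0 d1 d2 e0 e1 e2
  · rw [← neg_mem_iff, neg_sub]
    exact this e0 e1 e2 d0 d1 d2 hn.symm hc.symm (by omega)
  obtain ⟨j, rfl⟩ := Nat.exists_eq_add_of_le hle
  obtain rfl : d1 = e1 + j := by omega
  obtain rfl : e0 = d0 + (q - p) * j := by
    zify [hpq]; push_cast at hn; linear_combination hn
  have e : x0 ^ d0 * x1 ^ (e1 + j) * x2 ^ (e2 + j) - x0 ^ (d0 + (q - p) * j) * x1 ^ e1 * x2 ^ e2 =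
      (x0 ^ d0 * x1 ^ e1 * x2 ^ e2) * ((x1 * x2) ^ j - (x0 ^ (q - p)) ^ j) := by ring
  rw [e]
  refine I.mul_mem_left _ ?_
  obtain ⟨z, hz⟩ := sub_dvd_pow_sub_pow (x1 * x2) (x0 ^ (q - p)) j
  rw [hz]
  refine I.mul_mem_right _ ?_
  rw [← neg_mem_iff, neg_sub]; exact h

/-- Raising `c` by `k m` costs a factor `(x₀^(mp) x₁^m)^k`. -/
lemma congr_shift {I : Ideal R} {x0 x1 x2 : R} {p q : ℕ} (hpq : p ≤ q)
    (h : x0 ^ (q - p) - x1 * x2 ∈ I) (m k d0 d1 d2 e0 e1 e2 : ℕ)
    (hn : (e0 : ℤ) - p * e1 + q * e2 = (d0 : ℤ) - p * d1 + q * d2)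
    (hc : (d1 : ℤ) - d2 = (e1 : ℤ) - e2 + m * k) :
    x0 ^ d0 * x1 ^ d1 * x2 ^ d2 - x0 ^ e0 * x1 ^ e1 * x2 ^ e2 * (x0 ^ (m * p) * x1 ^ m) ^ k ∈ I := by
  have := congr_same hpq h d0 d1 d2 (e0 + m * p * k) (e1 + m * k) e2
    (by push_cast; linear_combination hn) (by push_cast; linear_combination hc)
  convert this using 2
  ring

lemma pow_sub_pow_mem {I : Ideal R} {u v : R} (h : u - v ∈ I) (k : ℕ) : u ^ k - v ^ k ∈ I := by
  obtain ⟨z, hz⟩ := sub_dvd_pow_sub_pow u v k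
  rw [hz]; exact I.mul_mem_right _ h

/-- Exponents with the same weight and `d₀, e₀ < g` differ by a multiple of `(aq, ap)`. -/
lemma small_d0 {p q m : ℕ} (hpq : p < q) (hcop : Nat.Coprime p q) (hm : 0 < m)
    (d0 d1 d2 e0 e1 e2 : ℕ) (hn : (e0 : ℤ) - p * e1 + q * e2 = (d0 : ℤ) - p * d1 + q * d2)
    (hc : (m : ℤ) ∣ ((d1 : ℤ) - d2) - ((e1 : ℤ) - e2))
    (hd0 : d0 < Nat.gcd m (q - p)) (he0 : e0 < Nat.gcd m (q - p)) :
    d0 = e0 ∧ ∃ j : ℤ, (e1 : ℤ) = d1 + ((m / Nat.gcd m (q - p) * q : ℕ) : ℤ) * j ∧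
      (e2 : ℤ) = d2 + ((m / Nat.gcd m (q - p) * p : ℕ) : ℤ) * j ∧
      ((d1 : ℤ) - d2) - ((e1 : ℤ) - e2) = -((m : ℤ) * ((q - p) / Nat.gcd m (q - p) : ℕ) * j) := by
  have hgpos : 0 < Nat.gcd m (q - p) := Nat.gcd_pos_of_pos_left _ hm
  obtain ⟨a, ha⟩ := Nat.gcd_dvd_left m (q - p)
  obtain ⟨b, hb⟩ := Nat.gcd_dvd_right m (q - p)
  rw [show m / Nat.gcd m (q - p) = a from Nat.div_eq_of_eq_mul_right hgpos ha,
    show (q - p) / Nat.gcd m (q - p) = b from Nat.div_eq_of_eq_mul_right hgpos hb]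
  have hab : Nat.Coprime b a := by
    have := Nat.coprime_div_gcd_div_gcd (m := m) (n := q - p) hgpos
    rw [show m / Nat.gcd m (q - p) = a from Nat.div_eq_of_eq_mul_right hgpos ha,
      show (q - p) / Nat.gcd m (q - p) = b from Nat.div_eq_of_eq_mul_right hgpos hb] at this
    exact this.symm
  have hbp : Nat.Coprime b p := by
    have hc' : Nat.Coprime (q - p) p := (Nat.coprime_sub_self_left (m := p) (n := q) hpq.le).2 hcop.symm
    exact hc'.coprime_dvd_left (Dvd.intro_left _ hb.symm)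
  generalize Nat.gcd m (q - p) = g at *
  have hD : (q : ℤ) - p = g * b := by rw [← Nat.cast_mul, ← hb]; omega
  have hmm : (m : ℤ) = g * a := by exact_mod_cast ha
  obtain ⟨x, hx⟩ := hc
  have hkey : (d0 : ℤ) - e0 = g * ((p : ℤ) * a * x - b * ((d2 : ℤ) - e2)) := by
    linear_combination (-1 : ℤ) * hn + (p : ℤ) * hx + (p : ℤ) * x * hmm - ((d2 : ℤ) - e2) * hD
  have h0 : (p : ℤ) * a * x - b * ((d2 : ℤ) - e2) = 0 := by
    generalize (p : ℤ) * a * x - b * ((d2 : ℤ) - e2) = z at hkey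
    rcases lt_trichotomy z 0 with h | h | h
    · have : (g : ℤ) * z ≤ -g := by nlinarith
      omega
    · exact h
    · have : (g : ℤ) ≤ g * z := by nlinarith
      omega
  rw [h0, mul_zero] at hkey
  refine ⟨by omega, ?_⟩
  have hdvd : (b : ℤ) ∣ x := by
    have hco : IsCoprime (b : ℤ) ((p : ℤ) * a) :=
      IsCoprime.mul_right (Nat.isCoprime_iff_coprime.2 hbp) (Nat.isCoprime_iff_coprime.2 hab)
    exact hco.dvd_of_dvd_mul_left ⟨(d2 : ℤ) - e2, by linarith⟩
  obtain ⟨j, rfl⟩ := hdvd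
  refine ⟨-j, ?_⟩
  have hb0 : (b : ℤ) ≠ 0 := by
    intro h; rw [h, mul_zero] at hD; omega
  have h2 : (d2 : ℤ) - e2 = p * a * j := mul_left_cancel₀ hb0 (by linarith)
  refine ⟨?_, ?_, ?_⟩
  · push_cast; linear_combination (-1:ℤ) * hx + (-1:ℤ) * h2 - (b : ℤ) * j * hmm + (a : ℤ) * j * hD
  · push_cast; linear_combination (-1:ℤ) * h2
  · rw [hx]; ring

end Groth.Agent.HJ84.Congr

namespace Groth.Agent.HJ84.Congr

open W4c2invhilbsl2 Groth.Agent.HJ84.Mono

lemma rank_piece_idealL {k : Type u} [Field k] {p q m : ℕ} (hpq : p < q) (hcop : Nat.Coprime p q)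
    (hm : 0 < m) (hnt : ¬ (q - p ∣ m)) {c : List ℤ} (hc : IsHJDigits p q m c) (i : ℕ) (hi : 1 ≤ i)
    (hir : i ≤ c.length) (s : k) (ν : ℤ × ZMod m) :
    Module.rank k (piece k (wt3 p q m) (idealL k p q m c i s) ν) ≤ 1 := by
  set L := idealL k p q m c i s with hL
  set n' := nN p q m c (i - 1) with hn'
  set n := nN p q m c i with hn
  have hn0 : 0 < n := Seq.nN_pos hm hcop hpq hnt hc i hir
  have hn'D : n' ≤ (q : ℤ) - p := by
    rcases Nat.eq_zero_or_pos (i - 1) with h | h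
    · rw [hn', h, Seq.nN_eq hm hcop hpq hnt hc, Seq.tau_zero, Seq.D_eq (m := m) hpq]
    · exact (Seq.nN_lt_D hm hcop hpq hnt hc (i - 1) h (by omega)).le
  have hn'pos : 0 < n' := Seq.nN_pos hm hcop hpq hnt hc (i - 1) (by omega)
  have hbig : ∀ d : Fin 3 →₀ ℕ, n'.toNat ≤ d 0 → monomial d (1 : k) ∈ L := by
    intro d hd
    refine Ideal.mem_sup_left (Ideal.mem_of_dvd _ ?_ (Ideal.subset_span (Set.mem_insert _ _)))
    rw [monomial_fin3, mul_assoc]
    exact Dvd.dvd.mul_right (pow_dvd_pow _ hd) _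
  have hK : ∀ d : Fin 3 →₀ ℕ, d ≠ 0 → Finsupp.weight (wt3 p q m) d = 0 → monomial d (1 : k) ∈ L :=
    fun d h1 h2 => Ideal.mem_sup_right (Ideal.subset_span ⟨d, h1, h2, rfl⟩)
  have hrel : C s * X 0 ^ n.toNat - X 1 ^ (eE p q m c i).toNat * X 2 ^ (lL p q m c i).toNat ∈ L :=
    Ideal.mem_sup_left (Ideal.subset_span (Set.mem_insert_of_mem _ rfl))
  have hl := Seq.lL_pos hm hcop hpq hnt hc i hi hir
  have hP := Seq.hjP_pos hc.1 i hi (by omega)
  have hee := Seq.eE_eq (p := p) (q := q) (m := m) (c := c) i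
  have he0 : 0 ≤ eE p q m c i := by rw [hee]; positivity
  have main : ∀ N : ℕ, ∀ d e : Fin 3 →₀ ℕ,
      (d 0 : ℤ) - p * d 1 + q * d 2 = (e 0 : ℤ) - p * e 1 + q * e 2 →
      ((d 1 : ℤ) - d 2) - ((e 1 : ℤ) - e 2) = m * N → (e 0 : ℤ) < n' →
      ∃ a : k, monomial d 1 - C a * monomial e 1 ∈ L := by
    intro N
    induction N using Nat.strong_induction_on with
    | _ N ih =>
      intro d e h1 h2 he'
      by_cases hd' : n'.toNat ≤ d 0
      · exact ⟨0, by simpa using hbig d hd'⟩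
      push Not at hd'
      have hd0 : (d 0 : ℤ) < n' := by omega
      have hkey : (d 0 : ℤ) - e 0 = p * m * N - ((q : ℤ) - p) * ((d 2 : ℤ) - e 2) := by
        linear_combination h1 + (p : ℤ) * h2
      have hDpos : (0 : ℤ) < (q : ℤ) - p := by omega
      have hpmN : (0 : ℤ) ≤ (p : ℤ) * m * N := by positivity
      have hmN : (0 : ℤ) ≤ (m : ℤ) * N := by positivity
      have hd00 : (0 : ℤ) ≤ d 0 := Int.natCast_nonneg _
      have he00 : (0 : ℤ) ≤ e 0 := Int.natCast_nonneg _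
      by_cases hpos : (e 0 : ℤ) < d 0
      · -- a nonconstant invariant factor
        have hdt : e 2 ≤ d 2 := by
          by_contra hcon
          have h21 : (d 2 : ℤ) - e 2 ≤ -1 := by omega
          have := mul_le_mul_of_nonneg_left h21 hDpos.le
          linarith
        have hds : e 1 ≤ d 1 := by omega
        have hle : e ≤ d := by intro j; fin_cases j <;> simp <;> omega
        have hf : monomial (d - e) (1 : k) ∈ L := by
          refine hK _ ?_ ?_
          · intro h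
            have := DFunLike.congr_fun h 0
            simp at this; omega
          · refine weight3_zero.2 ⟨?_, ⟨-N, ?_⟩⟩
            · simp only [Finsupp.tsub_apply]
              rw [Nat.cast_sub (hle 0), Nat.cast_sub (hle 1), Nat.cast_sub (hle 2)]
              linear_combination h1
            · simp only [Finsupp.tsub_apply]
              rw [Nat.cast_sub (hle 1), Nat.cast_sub (hle 2)]
              linear_combination (-1 : ℤ) * h2
        refine ⟨0, ?_⟩
        have := L.mul_mem_right (monomial e (1 : k)) hf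
        rw [monomial_mul, mul_one, tsub_add_cancel_of_le hle] at this
        simpa using this
      push Not at hpos
      rcases Nat.eq_zero_or_pos N with hN | hN
      · subst hN
        have h22 : (d 2 : ℤ) = e 2 := by
          rcases lt_trichotomy ((d 2 : ℤ) - e 2) 0 with h | h | h
          · have := mul_le_mul_of_nonneg_left (show (d 2 : ℤ) - e 2 ≤ -1 by omega) hDpos.le
            push_cast at hkey; linarith
          · linarith
          · have := mul_le_mul_of_nonneg_left (show 1 ≤ (d 2 : ℤ) - e 2 by omega) hDpos.le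
            push_cast at hkey; linarith
        refine ⟨1, ?_⟩
        have h11 : (d 1 : ℤ) = e 1 := by push_cast at h2; linarith
        have h00 : (d 0 : ℤ) = e 0 := by rw [h11, h22] at h1; linarith
        rw [show d = e by ext j; fin_cases j <;> simp <;> omega]
        simp
      obtain ⟨hxP, hlt, het⟩ := Seq.step hm hcop hpq hnt hc i hi hir (N : ℤ) ((d 2 : ℤ) - e 2)
        ((d 0 : ℤ) - e 0) (by exact_mod_cast hN) hkey (by linarith) (by linarith)
      obtain ⟨E, hE⟩ := Int.eq_ofNat_of_zero_le he0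
      obtain ⟨T, hT⟩ := Int.eq_ofNat_of_zero_le hl.le
      obtain ⟨P, hPP⟩ := Int.eq_ofNat_of_zero_le hP.le
      obtain ⟨n₁, hn₁⟩ := Int.eq_ofNat_of_zero_le hn0.le
      have hE1 : E ≤ d 1 := by
        have : (E : ℤ) ≤ d 1 := by
          have : (0 : ℤ) ≤ e 1 := Int.natCast_nonneg _
          rw [← hE]; linarith
        exact_mod_cast this
      have hT2 : T ≤ d 2 := by omega
      have hPN : P ≤ N := by omega
      have hd'w : ((ex3 (d 0 + n₁) (d 1 - E) (d 2 - T) 0 : ℕ) : ℤ) - p * (ex3 (d 0 + n₁) (d 1 - E) (d 2 - T) 1 : ℕ) +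
          q * (ex3 (d 0 + n₁) (d 1 - E) (d 2 - T) 2 : ℕ) = (e 0 : ℤ) - p * e 1 + q * e 2 := by
        simp only [ex3_zero, ex3_one, ex3_two]
        have hn_def : n = -(p : ℤ) * eE p q m c i + (q : ℤ) * lL p q m c i := rfl
        rw [hn₁, hE, hT] at hn_def
        push_cast [Nat.cast_sub hE1, Nat.cast_sub hT2]
        linear_combination h1 + hn_def
      obtain ⟨a, ha⟩ := ih (N - P) (by omega) (ex3 (d 0 + n₁) (d 1 - E) (d 2 - T)) e hd'w (by
        simp only [ex3_one, ex3_two]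
        rw [hE, hT, hPP] at hee
        push_cast [Nat.cast_sub hE1, Nat.cast_sub hT2, Nat.cast_sub hPN]
        linear_combination h2 - hee) he'
      refine ⟨s * a, ?_⟩
      have e1 : monomial d (1 : k) - C (s * a) * monomial e 1 =
          C s * (monomial (ex3 (d 0 + n₁) (d 1 - E) (d 2 - T)) 1 - C a * monomial e 1) -
          (X 0 ^ d 0 * X 1 ^ (d 1 - E) * X 2 ^ (d 2 - T)) *
            (C s * X 0 ^ n₁ - X 1 ^ E * X 2 ^ T) := by
        rw [monomial_ex3, monomial_fin3 d]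
        conv_lhs => rw [show d 1 = (d 1 - E) + E by omega, show d 2 = (d 2 - T) + T by omega]
        rw [C_mul]; ring
      rw [e1]
      refine L.sub_mem (L.mul_mem_left _ ha) (L.mul_mem_left _ ?_)
      rw [hn₁, hE, hT] at hrel
      simpa using hrel
  refine rank_piece_le_one fun d e hd he => ?_
  obtain ⟨h1, ⟨x, hx⟩⟩ := weight_fin3_eq.1 (hd.trans he.symm)
  by_cases hd' : n'.toNat ≤ d 0
  · exact Or.inl ⟨0, by simpa using hbig d hd'⟩
  by_cases he' : n'.toNat ≤ e 0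
  · exact Or.inr ⟨0, by simpa using hbig e he'⟩
  rcases le_total 0 x with h | h
  · obtain ⟨N, rfl⟩ := Int.eq_ofNat_of_zero_le h
    exact Or.inl (main N d e h1 (by linear_combination hx) (by omega))
  · obtain ⟨N, hN⟩ := Int.eq_ofNat_of_zero_le (neg_nonneg.2 h)
    exact Or.inr (main N e d h1.symm (by linear_combination (-1:ℤ) * hx + (m:ℤ) * hN) (by omega))

end Groth.Agent.HJ84.Congr
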