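import Groth.Prelude.Def_W4c2invhilbsl2
import Mathlib

/-! Monomial bookkeeping for weighted homogeneous pieces. -/

set_option autoImplicit false
universe u v

open MvPolynomial

namespace Groth.Agent.HJ84.Mono

variable {σ : Type*} {k : Type u} [Field k] {M : Type v} [AddCommGroup M] {w : σ → M}

/-- Modulo `I`, `f` is a combination of the elements `g j` with coefficients of weight zero. -/
def InSpan {ι : Type*} [Fintype ι] (w : σ → M) (I : Ideal (MvPolynomial σ k)) (g : ι → MvPolynomial σ k)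
    (f : MvPolynomial σ k) : Prop :=
  ∃ a : ι → MvPolynomial σ k, (∀ j, a j ∈ weightedHomogeneousSubmodule k w 0) ∧ f - ∑ j, a j * g j ∈ I

variable {ι : Type*} [Fintype ι] {I : Ideal (MvPolynomial σ k)} {g : ι → MvPolynomial σ k}

lemma InSpan.add {f f' : MvPolynomial σ k} (h : InSpan w I g f) (h' : InSpan w I g f') :
    InSpan w I g (f + f') := by
  obtain ⟨a, ha, hI⟩ := h
  obtain ⟨b, hb, hI'⟩ := h'
  refine ⟨fun j => a j + b j, fun j => add_mem (ha j) (hb j), ?_⟩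
  have : f + f' - ∑ j, (a j + b j) * g j = (f - ∑ j, a j * g j) + (f' - ∑ j, b j * g j) := by
    simp only [add_mul, Finset.sum_add_distrib]; ring
  rw [this]; exact I.add_mem hI hI'

lemma inSpan_zero : InSpan w I g (0 : MvPolynomial σ k) :=
  ⟨0, fun _ => zero_mem _, by simp⟩

lemma InSpan.smul {f : MvPolynomial σ k} (h : InSpan w I g f) (c : k) : InSpan w I g (C c * f) := by
  obtain ⟨a, ha, hI⟩ := h
  refine ⟨fun j => C c * a j, fun j => ?_, ?_⟩
  · show C c * a j ∈ _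
    rw [C_mul']; exact Submodule.smul_mem _ _ (ha j)
  · have : C c * f - ∑ j, C c * a j * g j = C c * (f - ∑ j, a j * g j) := by
      rw [mul_sub, Finset.mul_sum]; simp only [mul_assoc]
    rw [this]; exact I.mul_mem_left _ hI

lemma inSpan_single [DecidableEq ι] {f a : MvPolynomial σ k} (j : ι) (ha : a ∈ weightedHomogeneousSubmodule k w 0)
    (h : f - a * g j ∈ I) : InSpan w I g f := by
  refine ⟨Pi.single j a, fun i => ?_, ?_⟩
  · by_cases hi : i = j
    · subst hi; simpa using ha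
    · simp [hi]
  · rwa [Finset.sum_eq_single j (fun i _ hi => by simp [hi]) (by simp), Pi.single_eq_same]

lemma InSpan.of_monomials {ν : M} {f : MvPolynomial σ k} (hf : f ∈ weightedHomogeneousSubmodule k w ν)
    (h : ∀ d : σ →₀ ℕ, Finsupp.weight w d = ν → InSpan w I g (monomial d 1)) : InSpan w I g f := by
  rw [f.as_sum]
  refine Finset.sum_induction _ (InSpan w I g) (fun a b => InSpan.add) inSpan_zero fun d hd => ?_
  have hw : Finsupp.weight w d = ν := hf (mem_support_iff.1 hd)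
  have := (h d hw).smul (coeff d f)
  rwa [C_mul_monomial, mul_one] at this

lemma monomial_mem {d : σ →₀ ℕ} {ν : M} (h : Finsupp.weight w d = ν) (c : k) :
    monomial d c ∈ weightedHomogeneousSubmodule k w ν :=
  (mem_weightedHomogeneousSubmodule k w ν _).2 (isWeightedHomogeneous_monomial w d c h)

/-- A monomial dominating a generator of the same weight is in the span. -/
lemma inSpan_of_le [DecidableEq ι] {d e : σ →₀ ℕ} (j : ι) (hg : g j = monomial e 1) (hle : e ≤ d)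
    (hw : Finsupp.weight w e = Finsupp.weight w d) : InSpan w I g (monomial d 1) := by
  refine inSpan_single (a := monomial (d - e) 1) j (monomial_mem ?_ 1) ?_
  · have : Finsupp.weight w (d - e) + Finsupp.weight w e = Finsupp.weight w d := by
      rw [← map_add, tsub_add_cancel_of_le hle]
    rw [← hw] at this
    exact add_eq_right.1 this
  · rw [hg, monomial_mul, mul_one, tsub_add_cancel_of_le hle, sub_self]
    exact I.zero_mem

/-- If any two monomials of weight `ν` are congruent up to scalars, the piece has rank at most one. -/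
lemma rank_piece_le_one {ν : M}
    (h : ∀ d e : σ →₀ ℕ, Finsupp.weight w d = ν → Finsupp.weight w e = ν →
      (∃ c : k, monomial d 1 - C c * monomial e 1 ∈ I) ∨ (∃ c : k, monomial e 1 - C c * monomial d 1 ∈ I)) :
    Module.rank k (W4c2invhilbsl2.piece k w I ν) ≤ 1 := by
  classical
  by_cases h0 : ∃ e : σ →₀ ℕ, Finsupp.weight w e = ν ∧ monomial e (1 : k) ∉ I
  · obtain ⟨e, he, heI⟩ := h0
    have hle : W4c2invhilbsl2.piece k w I ν ≤
        Submodule.span k {Ideal.Quotient.mkₐ k I (monomial e 1)} := by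
      rintro _ ⟨f, hf, rfl⟩
      rw [f.as_sum, map_sum]
      refine Submodule.sum_mem _ fun d hd => ?_
      have hw : Finsupp.weight w d = ν := hf (mem_support_iff.1 hd)
      rw [show monomial d (coeff d f) = (coeff d f) • (monomial d (1:k)) by
        rw [MvPolynomial.smul_monomial, smul_eq_mul, mul_one], map_smul]
      refine Submodule.smul_mem _ _ ?_
      obtain ⟨c, hc⟩ : ∃ c : k, monomial d 1 - C c * monomial e 1 ∈ I := by
        rcases h d e hw he with hc | ⟨c, hc⟩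
        · exact hc
        · have hc0 : c ≠ 0 := by
            intro hc0
            rw [hc0, C_0, zero_mul, sub_zero] at hc
            exact heI hc
          refine ⟨c⁻¹, ?_⟩
          have := I.mul_mem_left (-C c⁻¹) hc
          have e1 : -C c⁻¹ * (monomial e 1 - C c * monomial d 1) = monomial d 1 - C c⁻¹ * monomial e 1 := by
            rw [neg_mul, mul_sub, ← mul_assoc, ← C_mul, inv_mul_cancel₀ hc0, C_1, one_mul]; ring
          rwa [e1] at this
      refine Submodule.mem_span_singleton.2 ⟨c, ?_⟩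
      show c • Ideal.Quotient.mk I (monomial e 1) = Ideal.Quotient.mk I (monomial d 1)
      rw [← Ideal.Quotient.mkₐ_eq_mk k, ← map_smul, smul_eq_C_mul]
      exact (Ideal.Quotient.eq.2 hc).symm
    exact (Submodule.rank_mono hle).trans ((rank_span_le _).trans (by simp))
  · push Not at h0
    have : W4c2invhilbsl2.piece k w I ν = ⊥ := by
      rw [eq_bot_iff]
      rintro _ ⟨f, hf, rfl⟩
      rw [Submodule.mem_bot]
      show Ideal.Quotient.mk I f = 0
      rw [Ideal.Quotient.eq_zero_iff_mem, f.as_sum]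
      refine I.sum_mem fun d hd => ?_
      have := I.mul_mem_left (C (coeff d f)) (h0 d (hf (mem_support_iff.1 hd)))
      rwa [C_mul_monomial, mul_one] at this
    rw [this]; simp

/-- The exponent vector `(a, b, c)`. -/
noncomputable def ex3 (a b c : ℕ) : Fin 3 →₀ ℕ := Finsupp.equivFunOnFinite.symm ![a, b, c]

@[simp] lemma ex3_zero (a b c : ℕ) : ex3 a b c 0 = a := rfl
@[simp] lemma ex3_one (a b c : ℕ) : ex3 a b c 1 = b := rfl
@[simp] lemma ex3_two (a b c : ℕ) : ex3 a b c 2 = c := rfl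

lemma monomial_fin3 (d : Fin 3 →₀ ℕ) :
    (monomial d (1:k) : MvPolynomial (Fin 3) k) = X 0 ^ d 0 * X 1 ^ d 1 * X 2 ^ d 2 := by
  rw [monomial_eq, C_1, one_mul, Finsupp.prod_fintype _ _ (fun i => pow_zero _), Fin.prod_univ_three]

lemma monomial_ex3 (a b c : ℕ) :
    (monomial (ex3 a b c) (1:k) : MvPolynomial (Fin 3) k) = X 0 ^ a * X 1 ^ b * X 2 ^ c := by
  rw [monomial_fin3]; simp

/-- The exponent vector `(a, b, c, d, e)`. -/
noncomputable def ex5 (a b c d e : ℕ) : Fin 5 →₀ ℕ := Finsupp.equivFunOnFinite.symm ![a, b, c, d, e]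

@[simp] lemma ex5_zero (a b c d e : ℕ) : ex5 a b c d e 0 = a := rfl
@[simp] lemma ex5_one (a b c d e : ℕ) : ex5 a b c d e 1 = b := rfl
@[simp] lemma ex5_two (a b c d e : ℕ) : ex5 a b c d e 2 = c := rfl
@[simp] lemma ex5_three (a b c d e : ℕ) : ex5 a b c d e 3 = d := rfl
@[simp] lemma ex5_four (a b c d e : ℕ) : ex5 a b c d e 4 = e := rfl

lemma monomial_fin5 (d : Fin 5 →₀ ℕ) :
    (monomial d (1:k) : MvPolynomial (Fin 5) k) = X 0 ^ d 0 * X 1 ^ d 1 * X 2 ^ d 2 * X 3 ^ d 3 * X 4 ^ d 4 := by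
  rw [monomial_eq, C_1, one_mul, Finsupp.prod_fintype _ _ (fun i => pow_zero _), Fin.prod_univ_five]

lemma monomial_ex5 (a b c d e : ℕ) :
    (monomial (ex5 a b c d e) (1:k) : MvPolynomial (Fin 5) k) = X 0 ^ a * X 1 ^ b * X 2 ^ c * X 3 ^ d * X 4 ^ e := by
  rw [monomial_fin5]; simp

lemma weight_fin3 (p q m : ℕ) (d : Fin 3 →₀ ℕ) (n r : ℤ) :
    Finsupp.weight (W4c2invhilbsl2.wt3 p q m) d = (n, (r : ZMod m)) ↔
      (d 0 : ℤ) - p * d 1 + q * d 2 = n ∧ (m : ℤ) ∣ r - ((d 2 : ℤ) - d 1) := by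
  have hw : Finsupp.weight (W4c2invhilbsl2.wt3 p q m) d =
      ((d 0 : ℤ) - p * d 1 + q * d 2, (((d 2 : ℤ) - d 1 : ℤ) : ZMod m)) := by
    rw [Finsupp.weight_apply, Finsupp.sum_fintype d (fun i c => c • W4c2invhilbsl2.wt3 p q m i) (fun i => zero_smul ℕ _), Fin.sum_univ_three]
    simp [W4c2invhilbsl2.wt3, Prod.ext_iff]
    constructor <;> ring
  rw [hw, Prod.mk.injEq, ZMod.intCast_eq_intCast_iff_dvd_sub]

lemma weight_fin5 (p q m : ℕ) (d : Fin 5 →₀ ℕ) (n r : ℤ) :
    Finsupp.weight (W4c2invhilbsl2.wt5 p q m) d = (n, (r : ZMod m)) ↔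
      (d 0 : ℤ) - p * (d 1 + d 2) + q * (d 3 + d 4) = n ∧
        (m : ℤ) ∣ r - ((d 3 + d 4 : ℤ) - (d 1 + d 2)) := by
  have hw : Finsupp.weight (W4c2invhilbsl2.wt5 p q m) d =
      ((d 0 : ℤ) - p * (d 1 + d 2) + q * (d 3 + d 4), (((d 3 + d 4 : ℤ) - (d 1 + d 2) : ℤ) : ZMod m)) := by
    rw [Finsupp.weight_apply, Finsupp.sum_fintype d (fun i c => c • W4c2invhilbsl2.wt5 p q m i) (fun i => zero_smul ℕ _), Fin.sum_univ_five]
    simp [W4c2invhilbsl2.wt5, Prod.ext_iff]
    constructor <;> ring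
  rw [hw, Prod.mk.injEq, ZMod.intCast_eq_intCast_iff_dvd_sub]

lemma weight_fin3_eq {p q m : ℕ} {d e : Fin 3 →₀ ℕ} :
    Finsupp.weight (W4c2invhilbsl2.wt3 p q m) d = Finsupp.weight (W4c2invhilbsl2.wt3 p q m) e ↔
      (d 0 : ℤ) - p * d 1 + q * d 2 = (e 0 : ℤ) - p * e 1 + q * e 2 ∧
        (m : ℤ) ∣ ((e 2 : ℤ) - e 1) - ((d 2 : ℤ) - d 1) := by
  rw [(weight_fin3 p q m e _ ((e 2 : ℤ) - e 1)).2 ⟨rfl, by simp⟩, weight_fin3]

lemma weight_fin5_eq {p q m : ℕ} {d e : Fin 5 →₀ ℕ} :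
    Finsupp.weight (W4c2invhilbsl2.wt5 p q m) d = Finsupp.weight (W4c2invhilbsl2.wt5 p q m) e ↔
      (d 0 : ℤ) - p * (d 1 + d 2) + q * (d 3 + d 4) = (e 0 : ℤ) - p * (e 1 + e 2) + q * (e 3 + e 4) ∧
        (m : ℤ) ∣ ((e 3 + e 4 : ℤ) - (e 1 + e 2)) - ((d 3 + d 4 : ℤ) - (d 1 + d 2)) := by
  rw [(weight_fin5 p q m e _ ((e 3 + e 4 : ℤ) - (e 1 + e 2))).2 ⟨rfl, by simp⟩, weight_fin5]

lemma weight3_zero {p q m : ℕ} {d : Fin 3 →₀ ℕ} :
    Finsupp.weight (W4c2invhilbsl2.wt3 p q m) d = 0 ↔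
      (d 0 : ℤ) - p * d 1 + q * d 2 = 0 ∧ (m : ℤ) ∣ ((d 2 : ℤ) - d 1) := by
  rw [show (0 : ℤ × ZMod m) = ((0 : ℤ), ((0 : ℤ) : ZMod m)) by simp [Prod.ext_iff], weight_fin3, zero_sub, dvd_neg]

end Groth.Agent.HJ84.Mono
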