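import Groth.Prelude.Def_W4c2invhilbsl2HJ
import Mathlib

/-! Number theory of the Hirzebruch–Jung bookkeeping `hjP`, `hjQ`, `nN`. -/

set_option autoImplicit false

open W4c2invhilbsl2

namespace Groth.Agent.HJ84.Seq

/-- The remainder sequence `t Pᵢ - b Qᵢ`. -/
def tau (p q m : ℕ) (c : List ℤ) (i : ℕ) : ℤ := (tT p q m : ℤ) * hjP c i - (bB p q m : ℤ) * hjQ c i

lemma tau_succ (p q m : ℕ) (c : List ℤ) (i : ℕ) :
    tau p q m c (i + 2) = c.getD i 0 * tau p q m c (i + 1) - tau p q m c i := by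
  simp only [tau, hjP, hjQ]; ring

lemma tau_zero (p q m : ℕ) (c : List ℤ) : tau p q m c 0 = bB p q m := by simp [tau, hjP, hjQ]

lemma tau_one (p q m : ℕ) (c : List ℤ) : tau p q m c 1 = tT p q m := by simp [tau, hjP, hjQ]

lemma hjP_det (c : List ℤ) (i : ℕ) : hjP c (i + 1) * hjQ c i - hjP c i * hjQ c (i + 1) = -1 := by
  induction i with
  | zero => simp [hjP, hjQ]
  | succ i ih =>
    simp only [hjP, hjQ]
    linear_combination ih

lemma hjP_mono {c : List ℤ} (hc : ∀ x ∈ c, (2 : ℤ) ≤ x) :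
    ∀ i, i ≤ c.length → (0 ≤ hjP c i ∧ hjP c i < hjP c (i + 1)) := by
  intro i
  induction i with
  | zero => intro _; simp [hjP]
  | succ i ih =>
    intro hi
    obtain ⟨h0, h1⟩ := ih (by omega)
    have h2 : (2 : ℤ) ≤ c.getD i 0 := by
      rw [List.getD_eq_getElem _ _ (by omega)]; exact hc _ (List.getElem_mem _)
    refine ⟨by omega, ?_⟩
    rw [show i + 1 + 1 = i + 2 from rfl, hjP]
    nlinarith

lemma hjP_pos {c : List ℤ} (hc : ∀ x ∈ c, (2 : ℤ) ≤ x) (i : ℕ) (h1 : 1 ≤ i) (hi : i ≤ c.length + 1) :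
    0 < hjP c i := by
  obtain ⟨j, rfl⟩ : ∃ j, i = j + 1 := ⟨i - 1, by omega⟩
  have := hjP_mono hc j (by omega)
  omega

lemma one_lt_hjVal : ∀ {l : List ℤ}, (∀ x ∈ l, (2 : ℤ) ≤ x) → l ≠ [] → 1 < HJFrac.hjVal l := by
  intro l
  induction l with
  | nil => intro _ h; exact absurd rfl h
  | cons b t ih =>
    intro h _
    have hb : (2 : ℚ) ≤ b := by exact_mod_cast h b List.mem_cons_self
    rw [HJFrac.hjVal]
    by_cases ht : t = []
    · subst ht; simp [HJFrac.hjVal]; linarith
    · have := ih (fun x hx => h x (List.mem_cons_of_mem b hx)) ht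
      have hlt : (HJFrac.hjVal t)⁻¹ < 1 := inv_lt_one_of_one_lt₀ this
      linarith

variable {p q m : ℕ} {c : List ℤ}

lemma gcdK_pos (hm : 0 < m) : 0 < gcdK p q m := Nat.gcd_pos_of_pos_left _ hm

lemma gcd_mul_bB : gcdK p q m * bB p q m = q - p := Nat.mul_div_cancel' (Nat.gcd_dvd_right _ _)

lemma mp_mod_ne (hcop : Nat.Coprime p q) (hpq : p < q) (hnt : ¬ (q - p ∣ m)) : m * p % (q - p) ≠ 0 := by
  intro h
  refine hnt ?_
  have hc : Nat.Coprime (q - p) p := by
    have := (Nat.coprime_sub_self_left (m := p) (n := q) hpq.le).2 hcop.symm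
    exact this
  exact hc.dvd_of_dvd_mul_right (Nat.dvd_of_mod_eq_zero h)

lemma gcd_dvd_mod : gcdK p q m ∣ m * p % (q - p) := by
  refine (Nat.dvd_mod_iff (Nat.gcd_dvd_right _ _)).2 ?_
  exact Dvd.dvd.mul_right (Nat.gcd_dvd_left _ _) _

lemma g_tT (hcop : Nat.Coprime p q) (hpq : p < q) :
    gcdK p q m * tT p q m = q - p - m * p % (q - p) :=
  Nat.mul_div_cancel' (Nat.dvd_sub (Nat.gcd_dvd_right _ _) gcd_dvd_mod)

/-- `p m = (α + 1)(q - p) - g t`. -/
lemma pm_eq (hcop : Nat.Coprime p q) (hpq : p < q) :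
    (p : ℤ) * m = ((alpha p q m : ℤ) + 1) * ((q : ℤ) - p) - (gcdK p q m : ℤ) * tT p q m := by
  have h1 := g_tT (m := m) hcop hpq
  have h2 := Nat.div_add_mod (m * p) (q - p)
  have h3 : m * p % (q - p) ≤ q - p := (Nat.mod_lt _ (by omega)).le
  have h4 : ((q - p : ℕ) : ℤ) = (q : ℤ) - p := by omega
  have h1' : ((gcdK p q m : ℤ) * tT p q m) = ((q : ℤ) - p) - ((m * p % (q - p) : ℕ) : ℤ) := by
    rw [← h4, ← Nat.cast_sub h3, ← h1]; push_cast; ring
  have h2' : ((q : ℤ) - p) * (alpha p q m : ℤ) + ((m * p % (q - p) : ℕ) : ℤ) = (m : ℤ) * p := by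
    have := congrArg (Nat.cast : ℕ → ℤ) h2
    rw [Nat.cast_add, Nat.cast_mul, h4] at this
    rw [← Nat.cast_mul m p]
    exact this
  linarith

lemma D_eq (hpq : p < q) : ((q : ℤ) - p) = (gcdK p q m : ℤ) * bB p q m := by
  rw [← Nat.cast_mul, gcd_mul_bB]; omega

lemma coprime_b_t (hm : 0 < m) (hcop : Nat.Coprime p q) (hpq : p < q) :
    Int.gcd (bB p q m) (tT p q m) = 1 := by
  rw [← Int.isCoprime_iff_gcd_eq_one]
  set g := gcdK p q m with hg
  have hgpos : (g : ℤ) ≠ 0 := by exact_mod_cast (gcdK_pos hm).ne'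
  obtain ⟨a, ha⟩ : g ∣ m := Nat.gcd_dvd_left _ _
  have hpm := pm_eq (m := m) hcop hpq
  rw [D_eq (m := m) hpq] at hpm
  have hka : (p : ℤ) * a = ((alpha p q m : ℤ) + 1) * bB p q m - tT p q m := by
    apply mul_left_cancel₀ hgpos
    have : (m : ℤ) = g * a := by exact_mod_cast ha
    rw [this, ← hg] at hpm
    linear_combination hpm
  have hab : Nat.Coprime (bB p q m) a := by
    have := Nat.coprime_div_gcd_div_gcd (m := m) (n := q - p) (gcdK_pos (p := p) (q := q) hm)
    rw [show m / Nat.gcd m (q - p) = a from Nat.div_eq_of_eq_mul_right (gcdK_pos (p := p) (q := q) hm) ha] at this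
    exact this.symm
  have hbp : Nat.Coprime (bB p q m) p := by
    have hc : Nat.Coprime (q - p) p := (Nat.coprime_sub_self_left (m := p) (n := q) hpq.le).2 hcop.symm
    exact hc.coprime_dvd_left (Dvd.intro_left _ gcd_mul_bB)
  have : IsCoprime (bB p q m : ℤ) ((p : ℤ) * a) :=
    IsCoprime.mul_right (Nat.isCoprime_iff_coprime.2 hbp) (Nat.isCoprime_iff_coprime.2 hab)
  rw [hka] at this
  obtain ⟨x, y, hxy⟩ := this
  exact ⟨x + y * ((alpha p q m : ℤ) + 1), -y, by linear_combination hxy⟩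

lemma one_le_tT (hm : 0 < m) (hcop : Nat.Coprime p q) (hpq : p < q) :
    1 ≤ tT p q m := by
  have h1 := g_tT (m := m) hcop hpq
  have h2 := Nat.mod_lt (m * p) (show q - p > 0 by omega)
  rcases Nat.eq_zero_or_pos (tT p q m) with h | h
  · rw [h, mul_zero] at h1; omega
  · exact h

section
variable (hm : 0 < m) (hcop : Nat.Coprime p q) (hpq : p < q) (hnt : ¬ (q - p ∣ m))
  (hc : IsHJDigits p q m c)
include hm hcop hpq hnt hc

lemma length_pos : 0 < c.length := by
  rcases c with _ | ⟨a, l⟩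
  · exfalso
    have hb : 0 < bB p q m := by
      rcases Nat.eq_zero_or_pos (bB p q m) with h | h
      · have := gcd_mul_bB (p := p) (q := q) (m := m); rw [h, mul_zero] at this; omega
      · exact h
    have ht := one_le_tT hm hcop hpq
    have h := hc.2
    simp only [HJFrac.hjVal] at h
    have h0 : (0 : ℚ) < (bB p q m : ℚ) / (tT p q m : ℚ) :=
      div_pos (by exact_mod_cast hb) (by exact_mod_cast ht)
    rw [← h] at h0
    exact lt_irrefl _ h0
  · simp

lemma tau_ratio : ∀ i, i < c.length →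
    0 < tau p q m c (i + 1) ∧ (tau p q m c i : ℚ) / tau p q m c (i + 1) = HJFrac.hjVal (c.drop i) := by
  intro i
  induction i with
  | zero =>
    intro _
    rw [tau_zero, tau_one, List.drop_zero, hc.2]
    exact ⟨by exact_mod_cast one_le_tT hm hcop hpq, by push_cast; rfl⟩
  | succ i ih =>
    intro hi
    obtain ⟨h0, h1⟩ := ih (by omega)
    rw [List.drop_eq_getElem_cons (by omega : i < c.length), HJFrac.hjVal] at h1
    have hne : c.drop (i + 1) ≠ [] := by simp; omega
    have hv := one_lt_hjVal (fun x hx => hc.1 x (List.mem_of_mem_drop hx)) hne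
    have hv0 : HJFrac.hjVal (c.drop (i + 1)) ≠ 0 := by linarith
    have hrec := tau_succ p q m c i
    rw [List.getD_eq_getElem _ _ (by omega : i < c.length)] at hrec
    have h0q : (0 : ℚ) < tau p q m c (i + 1) := by exact_mod_cast h0
    have hr : (tau p q m c (i + 2) : ℚ) = (tau p q m c (i + 1) : ℚ) * (HJFrac.hjVal (c.drop (i + 1)))⁻¹ := by
      rw [hrec]; push_cast
      rw [div_eq_iff h0q.ne'] at h1
      rw [h1]; ring
    have hpos : (0 : ℚ) < tau p q m c (i + 2) := by rw [hr]; exact mul_pos h0q (inv_pos.2 (by linarith))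
    refine ⟨by exact_mod_cast hpos, ?_⟩
    rw [hr]
    field_simp

lemma tau_last : tau p q m c (c.length + 1) = 0 := by
  have hl := length_pos hm hcop hpq hnt hc
  obtain ⟨i, hi⟩ : ∃ i, c.length = i + 1 := ⟨c.length - 1, by omega⟩
  obtain ⟨h0, h1⟩ := tau_ratio hm hcop hpq hnt hc i (by omega)
  rw [List.drop_eq_getElem_cons (by omega : i < c.length), HJFrac.hjVal,
    List.drop_of_length_le (by omega : c.length ≤ i + 1), HJFrac.hjVal, inv_zero, sub_zero,
    div_eq_iff (by exact_mod_cast h0.ne')] at h1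
  rw [hi, show i + 1 + 1 = i + 2 from rfl, tau_succ, List.getD_eq_getElem _ _ (by omega : i < c.length)]
  have hic : i < c.length := by omega
  have : (tau p q m c i : ℤ) = (c)[i] * tau p q m c (i + 1) := by exact_mod_cast h1
  linarith

lemma tau_lt (i : ℕ) (hi : i ≤ c.length) : tau p q m c (i + 1) < tau p q m c i := by
  rcases hi.lt_or_eq with h | h
  · obtain ⟨h0, h1⟩ := tau_ratio hm hcop hpq hnt hc i h
    have hne : c.drop i ≠ [] := by simp; omega
    have hv := one_lt_hjVal (fun x hx => hc.1 x (List.mem_of_mem_drop hx)) hne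
    rw [← h1, one_lt_div (by exact_mod_cast h0)] at hv
    exact_mod_cast hv
  · subst h
    rw [tau_last hm hcop hpq hnt hc]
    have hl := length_pos hm hcop hpq hnt hc
    obtain ⟨j, hj⟩ : ∃ j, c.length = j + 1 := ⟨c.length - 1, by omega⟩
    rw [hj]
    exact (tau_ratio hm hcop hpq hnt hc j (by omega)).1

lemma tau_nonneg (i : ℕ) (hi : i ≤ c.length + 1) : 0 ≤ tau p q m c i := by
  rcases Nat.lt_or_ge i (c.length + 1) with h | h
  · rcases i with _ | i
    · rw [tau_zero]; positivity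
    · exact (tau_ratio hm hcop hpq hnt hc i (by omega)).1.le
  · rw [show i = c.length + 1 by omega, tau_last hm hcop hpq hnt hc]

lemma tau_len : tau p q m c c.length = 1 := by
  set T := tau p q m c c.length with hT
  have hdvd : ∀ j, j ≤ c.length + 1 → T ∣ tau p q m c (c.length + 1 - j) ∧
      (j + 1 ≤ c.length + 1 → T ∣ tau p q m c (c.length - j)) := by
    intro j
    induction j with
    | zero => intro _; exact ⟨by simp [tau_last hm hcop hpq hnt hc], fun _ => by simp [hT]⟩
    | succ j ih =>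
      intro hj
      obtain ⟨h1, h2⟩ := ih (by omega)
      refine ⟨by rw [show c.length + 1 - (j + 1) = c.length - j by omega]; exact h2 (by omega), fun hj2 => ?_⟩
      obtain ⟨i, hi⟩ : ∃ i, c.length = j + 1 + i := ⟨c.length - (j + 1), by omega⟩
      rw [show c.length - (j + 1) = i by omega]
      have a1 : T ∣ tau p q m c (i + 1) := by
        have := h2 (by omega); rwa [show c.length - j = i + 1 by omega] at this
      have a2 : T ∣ tau p q m c (i + 2) := by rwa [show c.length + 1 - j = i + 2 by omega] at h1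
      rw [show tau p q m c i = c.getD i 0 * tau p q m c (i + 1) - tau p q m c (i + 2) by
        rw [tau_succ]; ring]
      exact dvd_sub (a1.mul_left _) a2
  have hl := length_pos hm hcop hpq hnt hc
  have h0 := (hdvd c.length (by omega)).2 le_rfl
  have h1 := (hdvd c.length (by omega)).1
  rw [Nat.sub_self, tau_zero] at h0
  rw [show c.length + 1 - c.length = 1 by omega, tau_one] at h1
  have hg := Int.dvd_coe_gcd h0 h1
  rw [coprime_b_t hm hcop hpq] at hg
  have hpos := tau_lt hm hcop hpq hnt hc c.length le_rfl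
  rw [tau_last hm hcop hpq hnt hc] at hpos
  exact Int.eq_one_of_dvd_one hpos.le (by exact_mod_cast hg)

lemma tau_anti {i j : ℕ} (hij : i < j) (hj : j ≤ c.length + 1) : tau p q m c j < tau p q m c i := by
  induction j with
  | zero => omega
  | succ j ih =>
    have h := tau_lt hm hcop hpq hnt hc j (by omega)
    rcases Nat.lt_or_ge i j with h' | h'
    · exact h.trans (ih h' (by omega))
    · rwa [show i = j by omega]

lemma tau_lt_b (i : ℕ) (h1 : 1 ≤ i) (hi : i ≤ c.length + 1) : tau p q m c i < bB p q m := by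
  rw [← tau_zero p q m c]
  exact tau_anti hm hcop hpq hnt hc (by omega) hi

/-- Best approximation: no small multiple of `t` has a residue below the previous remainder. -/
lemma best_approx (i : ℕ) (hi : i + 1 ≤ c.length + 1) (x y : ℤ) (hx0 : 0 < x)
    (hx : x < hjP c (i + 1)) :
    tau p q m c i ≤ (tT p q m : ℤ) * x - (bB p q m : ℤ) * y ∨
      (tT p q m : ℤ) * x - (bB p q m : ℤ) * y ≤ tau p q m c (i + 1) - tau p q m c i := by
  have hdet := hjP_det c i
  obtain ⟨hP0, hP1⟩ := hjP_mono hc.1 i (by omega)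
  have hτ := tau_lt hm hcop hpq hnt hc i (by omega)
  have hτ0 := tau_nonneg hm hcop hpq hnt hc (i + 1) hi
  set P := hjP c i
  set P' := hjP c (i + 1)
  -- coordinates in the basis given by two consecutive terms
  set u : ℤ := y * P' - x * hjQ c (i + 1) with hu
  set v : ℤ := x * hjQ c i - y * P with hv
  have hxuv : x = -(u * P + v * P') := by rw [hu, hv]; linear_combination x * hdet
  have hρ : (tT p q m : ℤ) * x - (bB p q m : ℤ) * y = -(u * tau p q m c i + v * tau p q m c (i + 1)) := by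
    simp only [tau]; rw [hu, hv]
    linear_combination ((tT p q m : ℤ) * x - (bB p q m : ℤ) * y) * hdet
  rcases lt_trichotomy u 0 with h | h | h
  · left
    rw [hρ]
    have : v ≤ -u - 1 := by
      by_contra hcon
      push Not at hcon
      nlinarith [mul_le_mul_of_nonneg_right (show -u ≤ v by omega) (show (0:ℤ) ≤ P' by omega)]
    nlinarith
  · exfalso
    rw [h] at hxuv
    have : v < 0 := by by_contra hcon; push Not at hcon; nlinarith
    nlinarith
  · right
    rw [hρ]
    have hv0 : v ≤ -1 := by by_contra hcon; push Not at hcon; nlinarith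
    have : -v ≤ u := by
      by_contra hcon
      push Not at hcon
      nlinarith
    nlinarith

lemma nN_eq (i : ℕ) : nN p q m c i = (gcdK p q m : ℤ) * tau p q m c i := by
  have hpm := pm_eq (m := m) hcop hpq
  have hD := D_eq (m := m) hpq
  simp only [nN, eE, lL, tau]
  push_cast
  linear_combination (-(hjP c i)) * hpm + (-(hjQ c i)) * hD

lemma nN_pos (i : ℕ) (hi : i ≤ c.length) : 0 < nN p q m c i := by
  rw [nN_eq hm hcop hpq hnt hc]
  refine mul_pos (by exact_mod_cast gcdK_pos hm) ?_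
  exact lt_of_le_of_lt (tau_nonneg hm hcop hpq hnt hc (i + 1) (by omega)) (tau_lt hm hcop hpq hnt hc i hi)

lemma nN_lt_D (i : ℕ) (h1 : 1 ≤ i) (hi : i ≤ c.length + 1) : nN p q m c i < (q : ℤ) - p := by
  rw [nN_eq hm hcop hpq hnt hc, D_eq (m := m) hpq]
  exact mul_lt_mul_of_pos_left (tau_lt_b hm hcop hpq hnt hc i h1 hi) (by exact_mod_cast gcdK_pos hm)

omit hm hnt hc in
lemma pmP_eq (i : ℕ) :
    (p : ℤ) * m * hjP c i = ((q : ℤ) - p) * lL p q m c i - nN p q m c i := by
  simp only [nN, eE, lL]; push_cast; ring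

omit hm hcop hpq hnt hc in
lemma eE_eq (i : ℕ) : eE p q m c i = lL p q m c i + (m : ℤ) * hjP c i := by
  simp only [eE, lL]; push_cast; ring

lemma lL_pos (i : ℕ) (h1 : 1 ≤ i) (hi : i ≤ c.length) : 0 < lL p q m c i := by
  have h := pmP_eq hcop hpq (c := c) (m := m) i
  have hn := nN_pos hm hcop hpq hnt hc i hi
  have hP := hjP_pos hc.1 i h1 (by omega)
  by_contra hcon
  push Not at hcon
  have : (0:ℤ) < (q : ℤ) - p := by omega
  have : 0 ≤ (p : ℤ) * m * hjP c i := by positivity
  nlinarith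

/-- Either a small correction vector is componentwise nonnegative, or it dominates `(eᵢ, lᵢ)`. -/
lemma step (i : ℕ) (h1 : 1 ≤ i) (hi : i ≤ c.length) (x Δt Δ0 : ℤ) (hx : 0 < x)
    (hΔ : Δ0 = (p : ℤ) * m * x - ((q : ℤ) - p) * Δt) (hnp : Δ0 ≤ 0)
    (hbd : -nN p q m c (i - 1) < Δ0) :
    hjP c i ≤ x ∧ lL p q m c i ≤ Δt ∧ eE p q m c i ≤ Δt + m * x := by
  obtain ⟨j, rfl⟩ : ∃ j, i = j + 1 := ⟨i - 1, by omega⟩
  rw [show j + 1 - 1 = j from rfl, nN_eq hm hcop hpq hnt hc] at hbd
  have hD0 : (0:ℤ) < (q : ℤ) - p := by omega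
  have hpm := pm_eq (m := m) hcop hpq
  have hD := D_eq (m := m) hpq
  have hg : (0:ℤ) < gcdK p q m := by exact_mod_cast gcdK_pos hm
  set y : ℤ := ((alpha p q m : ℤ) + 1) * x - Δt with hy
  have hrep : Δ0 = -((gcdK p q m : ℤ) * ((tT p q m : ℤ) * x - (bB p q m : ℤ) * y)) := by
    rw [hΔ, hy]; linear_combination x * hpm + (((alpha p q m : ℤ) + 1) * x - Δt) * hD
  have hxP : hjP c (j + 1) ≤ x := by
    by_contra hlt
    push Not at hlt
    rcases best_approx hm hcop hpq hnt hc j (by omega) x y hx hlt with h | h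
    · have := mul_le_mul_of_nonneg_left h hg.le
      rw [hrep] at hbd; linarith
    · have hlt' := tau_lt hm hcop hpq hnt hc j (by omega)
      have : (gcdK p q m : ℤ) * ((tT p q m : ℤ) * x - (bB p q m : ℤ) * y) < 0 :=
        mul_neg_of_pos_of_neg hg (by omega)
      linarith
  refine ⟨hxP, ?_, ?_⟩
  · have hP := pmP_eq hcop hpq (c := c) (m := m) (j + 1)
    have hn := nN_lt_D hm hcop hpq hnt hc (j + 1) (by omega) (by omega)
    have : (p : ℤ) * m * hjP c (j + 1) ≤ (p : ℤ) * m * x := mul_le_mul_of_nonneg_left hxP (by positivity)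
    by_contra hcon
    push Not at hcon
    nlinarith
  · rw [eE_eq]
    have hP := pmP_eq hcop hpq (c := c) (m := m) (j + 1)
    have hn := nN_lt_D hm hcop hpq hnt hc (j + 1) (by omega) (by omega)
    have : (p : ℤ) * m * hjP c (j + 1) ≤ (p : ℤ) * m * x := mul_le_mul_of_nonneg_left hxP (by positivity)
    have : lL p q m c (j + 1) ≤ Δt := by
      by_contra hcon
      push Not at hcon
      nlinarith
    have : (m : ℤ) * hjP c (j + 1) ≤ m * x := mul_le_mul_of_nonneg_left hxP (by positivity)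
    linarith

end

end Groth.Agent.HJ84.Seq
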