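import Groth.Agent.HJ84.Mono
import Groth.Agent.HJ84.Seq

/-! Generators of weight pieces modulo the hypersurface. -/

set_option autoImplicit false
universe u v

open MvPolynomial

namespace Groth.Agent.HJ84.Mono

variable {σ : Type*} {k : Type u} [Field k] {M : Type v} [AddCommGroup M] {w : σ → M}
variable {ι : Type*} [Fintype ι] {I : Ideal (MvPolynomial σ k)} {g : ι → MvPolynomial σ k}

lemma InSpan.sub {f f' : MvPolynomial σ k} (h : InSpan w I g f) (h' : InSpan w I g f') :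
    InSpan w I g (f - f') := by
  have := h.add (h'.smul (-1))
  rwa [map_neg, C_1, neg_one_mul, ← sub_eq_add_neg] at this

lemma InSpan.congr {f f' : MvPolynomial σ k} (h : InSpan w I g f') (hf : f - f' ∈ I) :
    InSpan w I g f := by
  obtain ⟨a, ha, hI⟩ := h
  refine ⟨a, ha, ?_⟩
  have := I.add_mem hf hI
  rwa [sub_add_sub_cancel] at this

lemma ex3_le {a b c : ℕ} {d : Fin 3 →₀ ℕ} (h0 : a ≤ d 0) (h1 : b ≤ d 1) (h2 : c ≤ d 2) : ex3 a b c ≤ d := by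
  intro i; fin_cases i <;> assumption

lemma ex5_le {a b c e f : ℕ} {d : Fin 5 →₀ ℕ} (h0 : a ≤ d 0) (h1 : b ≤ d 1) (h2 : c ≤ d 2) (h3 : e ≤ d 3)
    (h4 : f ≤ d 4) : ex5 a b c e f ≤ d := by
  intro i; fin_cases i <;> assumption

lemma weight_fin3_zero_res {p q m : ℕ} {d : Fin 3 →₀ ℕ} {n : ℤ} :
    Finsupp.weight (W4c2invhilbsl2.wt3 p q m) d = (n, (0 : ZMod m)) ↔
      (d 0 : ℤ) - p * d 1 + q * d 2 = n ∧ (m : ℤ) ∣ ((d 2 : ℤ) - d 1) := by
  rw [show (n, (0 : ZMod m)) = (n, ((0 : ℤ) : ZMod m)) by simp, weight_fin3, zero_sub, dvd_neg]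

lemma weight_fin5_zero_res {p q m : ℕ} {d : Fin 5 →₀ ℕ} {n : ℤ} :
    Finsupp.weight (W4c2invhilbsl2.wt5 p q m) d = (n, (0 : ZMod m)) ↔
      (d 0 : ℤ) - p * (d 1 + d 2) + q * (d 3 + d 4) = n ∧ (m : ℤ) ∣ ((d 3 + d 4 : ℤ) - (d 1 + d 2)) := by
  rw [show (n, (0 : ZMod m)) = (n, ((0 : ℤ) : ZMod m)) by simp, weight_fin5, zero_sub, dvd_neg]

/-- The hypersurface ideal of `k[X₀,…,X₄]`. -/
noncomputable def hyp (k : Type u) [Field k] (p q : ℕ) : Ideal (MvPolynomial (Fin 5) k) :=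
  Ideal.span {X 0 ^ (q - p) - X 1 * X 4 + X 2 * X 3}

/-- Replace `X₀^(q-p)` by `X₁X₄ - X₂X₃`. -/
lemma inSpan_reduce {ι : Type*} [Fintype ι] {p q m : ℕ} (hpq : p ≤ q) {g : ι → MvPolynomial (Fin 5) k}
    {d : Fin 5 →₀ ℕ} (hd : q - p ≤ d 0)
    (h : ∀ e : Fin 5 →₀ ℕ, Finsupp.weight (W4c2invhilbsl2.wt5 p q m) e = Finsupp.weight (W4c2invhilbsl2.wt5 p q m) d →
      1 ≤ e 1 + e 2 → 1 ≤ e 3 + e 4 → InSpan (W4c2invhilbsl2.wt5 p q m) (hyp k p q) g (monomial e 1)) :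
    InSpan (W4c2invhilbsl2.wt5 p q m) (hyp k p q) g (monomial d 1) := by
  have hw : ∀ e : Fin 5 →₀ ℕ, e 0 = d 0 - (q - p) → e 1 + e 2 = d 1 + d 2 + 1 → e 3 + e 4 = d 3 + d 4 + 1 →
      Finsupp.weight (W4c2invhilbsl2.wt5 p q m) e = Finsupp.weight (W4c2invhilbsl2.wt5 p q m) d := by
    intro e e0 e12 e34
    rw [weight_fin5_eq, e0, Nat.cast_sub hd, Nat.cast_sub hpq]
    have a : ((e 1 : ℤ) + e 2) = d 1 + d 2 + 1 := by exact_mod_cast e12
    have b : ((e 3 : ℤ) + e 4) = d 3 + d 4 + 1 := by exact_mod_cast e34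
    refine ⟨by rw [a, b]; ring, ?_⟩
    rw [a, b, show ((d 3 : ℤ) + d 4 - (d 1 + d 2)) - (d 3 + d 4 + 1 - (d 1 + d 2 + 1)) = 0 by ring]
    exact dvd_zero _
  have h1 := h (ex5 (d 0 - (q - p)) (d 1 + 1) (d 2) (d 3) (d 4 + 1))
    (hw _ (by simp) (by simp; omega) (by simp; omega)) (by simp; omega) (by simp; omega)
  have h2 := h (ex5 (d 0 - (q - p)) (d 1) (d 2 + 1) (d 3 + 1) (d 4))
    (hw _ (by simp) (by simp; omega) (by simp; omega)) (by simp; omega) (by simp; omega)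
  refine (h1.sub h2).congr ?_
  have e : (monomial d (1:k) : MvPolynomial (Fin 5) k) -
      (monomial (ex5 (d 0 - (q - p)) (d 1 + 1) (d 2) (d 3) (d 4 + 1)) 1 -
        monomial (ex5 (d 0 - (q - p)) (d 1) (d 2 + 1) (d 3 + 1) (d 4)) 1) =
      (X 0 ^ (d 0 - (q - p)) * X 1 ^ d 1 * X 2 ^ d 2 * X 3 ^ d 3 * X 4 ^ d 4) *
        (X 0 ^ (q - p) - X 1 * X 4 + X 2 * X 3) := by
    rw [monomial_ex5, monomial_ex5, monomial_fin5]
    conv_lhs => arg 1; rw [show d 0 = (d 0 - (q - p)) + (q - p) by omega]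
    ring
  rw [e]
  exact Ideal.mul_mem_left _ _ (Ideal.subset_span rfl)

end Groth.Agent.HJ84.Mono

namespace Groth.Agent.HJ84.Seq

open W4c2invhilbsl2

/-- Exponents `(d₀, s, t)` of weight `(nᵢ, 0)` with `d₀ < nᵢ` dominate `(eᵢ, lᵢ)`. -/
lemma dominate {p q m : ℕ} {c : List ℤ} (hm : 0 < m) (hcop : Nat.Coprime p q) (hpq : p < q)
    (hnt : ¬ (q - p ∣ m)) (hc : IsHJDigits p q m c) (i : ℕ) (hi : 1 ≤ i) (hir : i ≤ c.length)
    (d0 s t : ℕ) (hw : (d0 : ℤ) - p * s + q * t = nN p q m c i) (hdiv : (m : ℤ) ∣ (t : ℤ) - s)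
    (hlt : d0 < (nN p q m c i).toNat) :
    (eE p q m c i).toNat ≤ s ∧ (lL p q m c i).toNat ≤ t := by
  have hnD := nN_lt_D hm hcop hpq hnt hc i hi (by omega)
  have hn := nN_pos hm hcop hpq hnt hc i hir
  have hn' : nN p q m c i < nN p q m c (i - 1) := by
    obtain ⟨j, rfl⟩ : ∃ j, i = j + 1 := ⟨i - 1, by omega⟩
    rw [show j + 1 - 1 = j from rfl, nN_eq hm hcop hpq hnt hc, nN_eq hm hcop hpq hnt hc]
    exact mul_lt_mul_of_pos_left (tau_lt hm hcop hpq hnt hc j (by omega)) (by exact_mod_cast gcdK_pos hm)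
  have hd : (d0 : ℤ) < nN p q m c i := by omega
  obtain ⟨x, hx⟩ := hdiv
  have hs : (s : ℤ) = t + m * (-x) := by linarith
  have hd0 : (d0 : ℤ) - nN p q m c i = (p : ℤ) * m * (-x) - ((q : ℤ) - p) * t := by
    rw [← hw, hs]; ring
  have hd00 : (0 : ℤ) ≤ d0 := Int.natCast_nonneg _
  have hx0 : 0 < -x := by
    by_contra hcon
    push Not at hcon
    have h1 : (p : ℤ) * m * (-x) ≤ 0 := mul_nonpos_of_nonneg_of_nonpos (by positivity) hcon
    rcases Nat.eq_zero_or_pos t with ht | ht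
    · subst ht
      have h2 : (0 : ℤ) ≤ (p : ℤ) * s := by positivity
      push_cast at hw
      linarith
    · have h2 : (q : ℤ) - p ≤ ((q : ℤ) - p) * t := by
        nlinarith [show (1 : ℤ) ≤ t by exact_mod_cast ht]
      linarith
  obtain ⟨-, h1, h2⟩ := step hm hcop hpq hnt hc i hi hir (-x) t _ hx0 hd0 (by linarith) (by linarith)
  exact ⟨by omega, by omega⟩

end Groth.Agent.HJ84.Seq
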